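import Groth.Agent.GenSub.GeomRed
import Mathlib.AlgebraicGeometry.Morphisms.ClosedImmersion

/-! Schematic density of a family of maps persists after base change over a field. -/

universe u

open CategoryTheory AlgebraicGeometry Limits TensorProduct

namespace Groth.Agent.GenSub

variable {k : Type u} [Field k]

theorem eq_zero_of_tensor_family {A R : Type u} [CommRing A] [Algebra k A] [CommRing R] [Algebra k R]
    (z : A ⊗[k] R)
    (h : ∀ a : A, a ≠ 0 → ∃ (B : CommRingCat.{u}) (_ : Algebra k B) (g : A →ₐ[k] B),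
      g a ≠ 0 ∧ Algebra.TensorProduct.map g (AlgHom.id k R) z = 0) : z = 0 := by
  let b := Module.Free.chooseBasis k R
  apply (TensorProduct.equivFinsuppOfBasisRight (M := A) b).injective
  rw [map_zero]
  ext i
  rw [Finsupp.zero_apply]
  by_contra hne
  obtain ⟨B, _, g, hg, hg0⟩ := h _ hne
  apply hg
  have key : ∀ y : A ⊗[k] R, TensorProduct.equivFinsuppOfBasisRight (M := B) b
      (Algebra.TensorProduct.map g (AlgHom.id k R) y) i =
      g (TensorProduct.equivFinsuppOfBasisRight (M := A) b y i) := by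
    intro y
    induction y using TensorProduct.induction_on with
    | zero => simp
    | tmul a c => simp
    | add y w hy hw => simp [hy, hw]
  rw [← key, hg0]
  simp

theorem isIso_spec_of_family {A R : CommRingCat.{u}} [AlgebraicGeometry.IsReduced (Spec A)]
    (a : Spec A ⟶ Spec (CommRingCat.of k)) (b : Spec R ⟶ Spec (CommRingCat.of k))
    {ι : Type*} {Q : ι → Scheme.{u}} (g : ∀ t, Q t ⟶ Spec A) (hd : Dense (⋃ t, Set.range (g t)))
    {P : Scheme.{u}} (π : P ⟶ pullback a b) [IsClosedImmersion π]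
    (h : ∀ t, ∃ l, l ≫ π = pullback.map (g t ≫ a) b a b (g t) (𝟙 _) (𝟙 _) (by simp) (by simp)) :
    IsIso π := by
  obtain ⟨φ, rfl⟩ := Spec.map_surjective a
  obtain ⟨ψ, rfl⟩ := Spec.map_surjective b
  letI : Algebra k A := φ.hom.toAlgebra
  letI : Algebra k R := ψ.hom.toAlgebra
  haveI : _root_.IsReduced A := (affine_isReduced_iff A).mp inferInstance
  let e : pullback (Spec.map φ) (Spec.map ψ) ≅ Spec (CommRingCat.of (A ⊗[k] R)) := pullbackSpecIso k A R
  suffices IsIso (π ≫ e.hom) from IsIso.of_isIso_comp_right π e.hom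
  refine IsClosedImmersion.isIso_of_injective_of_isAffine ((injective_iff_map_eq_zero _).mpr fun z hz => ?_)
  obtain ⟨c, rfl⟩ : ∃ c, (Scheme.ΓSpecIso _).inv c = z := ⟨(Scheme.ΓSpecIso _).hom z, Iso.hom_inv_id_apply _ _⟩
  suffices c = 0 by rw [this, map_zero]
  refine eq_zero_of_tensor_family (k := k) c fun d hd0 => ?_
  have hne : (PrimeSpectrum.basicOpen d : Set (PrimeSpectrum A)).Nonempty := by
    by_contra hne
    apply hd0
    refine IsNilpotent.eq_zero (PrimeSpectrum.basicOpen_eq_bot_iff d |>.mp ?_)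
    exact TopologicalSpace.Opens.ext (Set.not_nonempty_iff_eq_empty.mp hne)
  obtain ⟨x, hx, hxT⟩ := Dense.exists_mem_open (X := PrimeSpectrum A) hd (PrimeSpectrum.basicOpen d).2 hne
  obtain ⟨t, p, hp⟩ := Set.mem_iUnion.mp hx
  obtain ⟨B, u, q, hq⟩ : ∃ (B : CommRingCat.{u}) (u : Spec B ⟶ Q t) (q : Spec B), u q = p := by
    obtain ⟨j, q, hq⟩ := (Q t).affineCover.exists_eq p
    exact ⟨_, (Q t).affineCover.f j, q, hq⟩
  obtain ⟨θ, hθ⟩ := Spec.map_surjective (u ≫ g t)
  letI : Algebra k B := (φ ≫ θ).hom.toAlgebra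
  refine ⟨_, inferInstance, ⟨θ.hom, fun r => rfl⟩, ?_, ?_⟩
  · intro h0
    have hm : Spec.map θ q = x := by
      rw [hθ, Scheme.Hom.comp_apply]
      exact (congrArg (g t) hq).trans hp
    have hm' : PrimeSpectrum.comap θ.hom q ∈ PrimeSpectrum.basicOpen d :=
      (congrArg (fun z : PrimeSpectrum A => z ∈ PrimeSpectrum.basicOpen d) hm).mpr hxT
    exact hm' (show θ.hom d ∈ q.asIdeal from (show θ.hom d = 0 from h0) ▸ Ideal.zero_mem _)
  · obtain ⟨l, hl⟩ := h t
    let M := (Algebra.TensorProduct.map (⟨θ.hom, fun r => rfl⟩ : A →ₐ[k] B) (AlgHom.id k R)).toRingHom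
    let m := (pullbackSpecIso k B R).inv ≫
      pullback.map (Spec.map (CommRingCat.ofHom (algebraMap k B))) (Spec.map ψ) (g t ≫ Spec.map φ) (Spec.map ψ)
        u (𝟙 _) (𝟙 _) (by rw [Category.comp_id, ← Category.assoc, ← hθ, ← Spec.map_comp]; rfl) (by simp) ≫ l
    have key : m ≫ π ≫ e.hom = Spec.map (CommRingCat.ofHom M) := by
      rw [← Category.assoc, ← Iso.eq_comp_inv]
      simp only [m, Category.assoc, hl]
      have e1 : (pullbackSpecIso k B R).inv ≫
          pullback.fst (Spec.map (CommRingCat.ofHom (algebraMap k B))) (Spec.map ψ) =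
          Spec.map (CommRingCat.ofHom Algebra.TensorProduct.includeLeftRingHom) := pullbackSpecIso_inv_fst k B R
      have e1' : (pullbackSpecIso k B R).inv ≫
          pullback.snd (Spec.map (CommRingCat.ofHom (algebraMap k B))) (Spec.map ψ) =
          Spec.map (CommRingCat.ofHom (Algebra.TensorProduct.includeRight : R →ₐ[k] B ⊗[k] R).toRingHom) :=
        pullbackSpecIso_inv_snd k B R
      have e2 : e.inv ≫ pullback.fst (Spec.map φ) (Spec.map ψ) =
          Spec.map (CommRingCat.ofHom Algebra.TensorProduct.includeLeftRingHom) := pullbackSpecIso_inv_fst k A R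
      have e2' : e.inv ≫ pullback.snd (Spec.map φ) (Spec.map ψ) =
          Spec.map (CommRingCat.ofHom (Algebra.TensorProduct.includeRight : R →ₐ[k] A ⊗[k] R).toRingHom) :=
        pullbackSpecIso_inv_snd k A R
      apply pullback.hom_ext
      · simp only [Category.assoc, pullback.lift_fst, pullback.lift_fst_assoc]
        rw [reassoc_of% e1, ← hθ, e2, ← Spec.map_comp, ← Spec.map_comp]
        congr 1
      · simp only [Category.assoc, pullback.lift_snd, pullback.lift_snd_assoc, Category.comp_id]
        rw [e1', e2', ← Spec.map_comp]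
        congr 1
        ext r
        exact ((Algebra.TensorProduct.map_tmul _ _ 1 r).trans (by rw [map_one]; rfl)).symm
    have h1 : (Spec.map (CommRingCat.ofHom M)).appTop ((Scheme.ΓSpecIso _).inv c) = 0 := by
      rw [← key, Scheme.Hom.comp_appTop]
      exact (congrArg (fun w => m.appTop w) hz).trans (map_zero _)
    have h2 : (Scheme.ΓSpecIso _).inv ((CommRingCat.ofHom M) c) = 0 :=
      (congrArg (fun w => (ConcreteCategory.hom w) c) (Scheme.ΓSpecIso_inv_naturality (CommRingCat.ofHom M))).trans h1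
    have h3 := congrArg (Scheme.ΓSpecIso _).hom h2
    rw [Iso.inv_hom_id_apply, map_zero] at h3
    exact h3

theorem isIso_of_family {Z S P : Scheme.{u}} [AlgebraicGeometry.IsReduced Z]
    (f : Z ⟶ Spec (CommRingCat.of k)) (σ : S ⟶ Spec (CommRingCat.of k)) {ι : Type*} {Q : ι → Scheme.{u}}
    (a : ∀ t, Q t ⟶ Z) (hd : Dense (⋃ t, Set.range (a t))) (π : P ⟶ pullback f σ) [IsClosedImmersion π]
    (h : ∀ t, ∃ l, l ≫ π = pullback.map (a t ≫ f) σ f σ (a t) (𝟙 _) (𝟙 _) (by simp) (by simp)) :
    IsIso π := by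
  refine (IsZariskiLocalAtTarget.iff_of_openCover (P := MorphismProperty.isomorphisms Scheme)
    (Scheme.Pullback.openCoverOfLeftRight Z.affineCover S.affineCover f σ)).mpr fun ij => ?_
  obtain ⟨i, j⟩ := ij
  haveI : IsOpenImmersion (Z.affineCover.f i) := Z.affineCover.map_prop i
  have hred : AlgebraicGeometry.IsReduced (Z.affineCover.X i) := isReduced_of_isOpenImmersion (Z.affineCover.f i)
  let U := (Scheme.Pullback.openCoverOfLeftRight Z.affineCover S.affineCover f σ)
  let π' : pullback π (U.f (i, j)) ⟶ pullback (Z.affineCover.f i ≫ f) (S.affineCover.f j ≫ σ) :=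
    pullback.snd π (U.f (i, j))
  haveI : IsClosedImmersion π' := MorphismProperty.pullback_snd _ _ inferInstance
  refine @isIso_spec_of_family k _ _ _ hred (Z.affineCover.f i ≫ f) (S.affineCover.f j ≫ σ) ι _
    (fun t => pullback.fst (Z.affineCover.f i) (a t)) ?_ _ π' ‹_› fun t => ?_
  · refine Dense.mono ?_ (hd.preimage (Z.affineCover.f i).isOpenEmbedding.isOpenMap)
    intro z hz
    obtain ⟨t, ht⟩ := Set.mem_iUnion.mp hz
    exact Set.mem_iUnion.mpr ⟨t, (Scheme.Pullback.range_fst (Z.affineCover.f i) (a t)).symm.subset ht⟩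
  · obtain ⟨l, hl⟩ := h t
    let v : pullback (pullback.fst (Z.affineCover.f i) (a t) ≫ Z.affineCover.f i ≫ f) (S.affineCover.f j ≫ σ) ⟶
        pullback (a t ≫ f) σ :=
      pullback.map _ _ _ _ (pullback.snd (Z.affineCover.f i) (a t)) (S.affineCover.f j) (𝟙 _)
        (by rw [Category.comp_id, ← Category.assoc, pullback.condition, Category.assoc]) (by simp)
    refine ⟨pullback.lift (v ≫ l) (pullback.map _ _ _ _ (pullback.fst (Z.affineCover.f i) (a t)) (𝟙 _) (𝟙 _)
      (Category.comp_id _) ((Category.comp_id _).trans (Category.id_comp _).symm)) ?_, pullback.lift_snd _ _ _⟩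
    rw [Category.assoc, hl]
    simp only [v, U, Scheme.Pullback.openCoverOfLeftRight_f]
    apply pullback.hom_ext <;> simp only [Category.assoc]
    · erw [pullback.lift_fst, pullback.lift_fst_assoc, pullback.lift_fst, pullback.lift_fst_assoc]
      simp only [Category.assoc, pullback.condition]
      exact Category.assoc _ _ _
    · erw [pullback.lift_snd, pullback.lift_snd_assoc, pullback.lift_snd, pullback.lift_snd_assoc]
      simp only [Category.assoc, Category.comp_id, Category.id_comp]
      exact congrArg _ (Category.id_comp _).symm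

end Groth.Agent.GenSub
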