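import Groth.Agent.GenSub.Main
import Groth.Agent.GenSub.BcFamily
import Groth.Agent.MorLib.MonoSpec
import Groth.Prelude.Def_Red
import Mathlib.CategoryTheory.Monoidal.Cartesian.Over

/-! The generated subgroup after base change is the smallest subgroup through which the base change factors. -/

universe u

open CategoryTheory AlgebraicGeometry Limits MonoidalCategory CartesianMonoidalCategory MonObj GrpObj

noncomputable section

namespace Groth.Agent.GenSub

variable {k : Type u} [Field k] {S : Scheme.{u}} (σ : S ⟶ Spec (CommRingCat.of k))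

theorem bcMap_left_fst {A B : Over (Spec (CommRingCat.of k))} (a : A ⟶ B) :
    ((Over.pullback σ).map a).left ≫ pullback.fst B.hom σ = pullback.fst A.hom σ ≫ a.left := by
  dsimp only [Over.pullback]
  exact pullback.lift_fst _ _ _

theorem range_bcMap {A B : Over (Spec (CommRingCat.of k))} (a : A ⟶ B) :
    Set.range ((Over.pullback σ).map a).left = pullback.fst B.hom σ ⁻¹' Set.range a.left := by
  have e : ((Over.pullback σ).map a).left =
      pullback.map A.hom σ B.hom σ a.left (𝟙 _) (𝟙 _) (by simp) (by simp) := by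
    apply pullback.hom_ext
    · exact (bcMap_left_fst σ a).trans (pullback.lift_fst _ _ _).symm
    · exact (Over.w ((Over.pullback σ).map a)).trans ((Category.comp_id _).symm.trans (pullback.lift_snd _ _ _).symm)
  rw [e, Scheme.Pullback.range_map]
  exact Set.inter_eq_left.mpr fun z _ => ⟨_, rfl⟩

variable {G X : Over (Spec (CommRingCat.of k))} [GrpObj G] (f : X ⟶ G)

/-- Morphisms to the base changed group which factor through `i'`. -/
def Fac {Γ' : Over S} (i' : Γ' ⟶ Red.bc σ G) {T : Over S} (g : T ⟶ Red.bc σ G) : Prop := ∃ l, l ≫ i' = g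

theorem fac_word {Γ' : Over S} [GrpObj Γ'] (i' : Γ' ⟶ Red.bc σ G) [IsMonHom i']
    (hf : Fac σ i' ((Over.pullback σ).map f)) (t : Word.{u}) : Fac σ i' ((Over.pullback σ).map (word f t)) := by
  induction t with
  | one =>
    refine ⟨1, (MonObj.one_comp _).trans ?_⟩
    have : word f .one = (1 : 𝟙_ _ ⟶ G) := MonObj.one_eq_one G
    rw [this]
    exact (map_one (Over.pullback σ).homMonoidHom).symm
  | gen => exact hf
  | inv t ih =>
    obtain ⟨l, hl⟩ := ih
    refine ⟨(show (Over.pullback σ).obj (src X (.inv t)) ⟶ Γ' from l⁻¹), ?_⟩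
    have : word f (.inv t) = ((word f t)⁻¹ : src X t ⟶ G) := by
      show word f t ≫ (GrpObj.inv : G ⟶ G) = _
      rw [GrpObj.inv_eq_inv, GrpObj.comp_inv, Category.comp_id]
    rw [this]
    refine (GrpObj.inv_comp l i').trans ?_
    rw [hl]
    exact (map_inv (Over.pullback σ).homMonoidHom (word f t)).symm
  | mul a b iha ihb =>
    obtain ⟨la, hla⟩ := iha
    obtain ⟨lb, hlb⟩ := ihb
    refine ⟨(show (Over.pullback σ).obj (src X (.mul a b)) ⟶ Γ' from
      ((Over.pullback σ).map (fst (src X a) (src X b)) ≫ la) * ((Over.pullback σ).map (snd (src X a) (src X b)) ≫ lb)), ?_⟩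
    have : word f (.mul a b) = (fst (src X a) (src X b) ≫ word f a) * (snd (src X a) (src X b) ≫ word f b) := by
      show (word f a ⊗ₘ word f b) ≫ μ[G] = _
      rw [Hom.mul_def]
      congr 1
    rw [this]
    refine (MonObj.mul_comp _ _ _).trans ((congrArg₂ (· * ·) ?_ ?_).trans ((Over.pullback σ).map_mul _ _).symm)
    · exact ((Category.assoc _ _ _).trans (congrArg (fun m => (Over.pullback σ).map (fst (src X a) (src X b)) ≫ m) hla)).trans
        (Functor.map_comp _ _ _).symm
    · exact ((Category.assoc _ _ _).trans (congrArg (fun m => (Over.pullback σ).map (snd (src X a) (src X b)) ≫ m) hlb)).trans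
        (Functor.map_comp _ _ _).symm

variable {Z : Over (Spec (CommRingCat.of k))} [GrpObj Z] (g : Z ⟶ G) [IsMonHom g] [AlgebraicGeometry.IsReduced Z.left]
  {ι₀ : Type*} {Q : ι₀ → Over (Spec (CommRingCat.of k))} (a : ∀ t, Q t ⟶ Z) (hd : Dense (⋃ t, Set.range (a t).left))

include hd in
theorem fac_of_family {Γ' : Over S} [GrpObj Γ'] (i' : Γ' ⟶ Red.bc σ G) [IsMonHom i'] [IsImmersion i'.left]
    (hfac : ∀ t, Fac σ i' ((Over.pullback σ).map (a t ≫ g))) : Fac σ i' ((Over.pullback σ).map g) := by
  let gS : Red.bc σ Z ⟶ Red.bc σ G := (Over.pullback σ).map g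
  haveI : Mono i' := (Over.forget _).mono_of_mono_map (inferInstanceAs (Mono i'.left))
  let π : pullback gS.left i'.left ⟶ (Red.bc σ Z).left := pullback.fst gS.left i'.left
  haveI : IsImmersion π := MorphismProperty.pullback_fst _ _ inferInstance
  haveI : Mono π := inferInstance
  -- a point factors through `π` iff its image factors through `i'`
  have hiff : ∀ {T : Over S} (y : T ⟶ Red.bc σ Z), (∃ l, l ≫ π = y.left) ↔ Fac σ i' (y ≫ gS) := by
    intro T y
    constructor
    · rintro ⟨l, hl⟩
      have hh : l ≫ pullback.snd gS.left i'.left ≫ i'.left = (y ≫ gS).left := by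
        rw [← pullback.condition, reassoc_of% hl, Over.comp_left]
      exact ⟨Over.homMk (l ≫ pullback.snd gS.left i'.left) (by
          rw [← Over.w (y ≫ gS), ← hh, Category.assoc, Category.assoc, Category.assoc, Over.w i']),
        Over.OverMorphism.ext ((Category.assoc _ _ _).trans hh)⟩
    · rintro ⟨l, hl⟩
      exact ⟨pullback.lift y.left l.left (congrArg CommaMorphism.left hl).symm, pullback.lift_fst _ _ _⟩
  have hat : ∀ t, ∃ l, l ≫ π = ((Over.pullback σ).map (a t)).left := fun t =>
    (hiff _).mpr (by rw [← Functor.map_comp]; exact hfac t)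
  have hsub : pullback.fst Z.hom σ ⁻¹' (⋃ t, Set.range (a t).left) ⊆ Set.range π := by
    intro z hz
    obtain ⟨t, ht⟩ := Set.mem_iUnion.mp hz
    obtain ⟨w, hw⟩ : z ∈ Set.range ((Over.pullback σ).map (a t)).left := (range_bcMap σ (a t)).symm.subset ht
    obtain ⟨l, hl⟩ := hat t
    exact ⟨l w, by rw [← Scheme.Hom.comp_apply, hl]; exact hw⟩
  haveI := FDescent.universallyOpen_of_subsingleton σ
  -- the range of `π` is stable under translation by every point
  have hsurj : Function.Surjective π := by
    intro z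
    let K := (Red.bc σ Z).left.residueField z
    let T : Over S := Over.mk ((Red.bc σ Z).left.fromSpecResidueField z ≫ (Red.bc σ Z).hom)
    let ζ : T ⟶ Red.bc σ Z := Over.homMk ((Red.bc σ Z).left.fromSpecResidueField z) rfl
    let Y : Over S := Red.bc σ Z ⊗ T
    let τ : Y ≅ Y :=
      { hom := lift ((snd _ _ ≫ ζ) * fst _ _) (snd _ _)
        inv := lift ((snd _ _ ≫ ζ)⁻¹ * fst _ _) (snd _ _)
        hom_inv_id := by
          apply CartesianMonoidalCategory.hom_ext
          · simp only [Category.assoc, lift_fst, Category.id_comp, MonObj.comp_mul, GrpObj.comp_inv, lift_snd_assoc]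
            rw [← _root_.mul_assoc, _root_.inv_mul_cancel, _root_.one_mul]
          · simp
        inv_hom_id := by
          apply CartesianMonoidalCategory.hom_ext
          · simp only [Category.assoc, lift_fst, Category.id_comp, MonObj.comp_mul, lift_snd_assoc]
            rw [← _root_.mul_assoc, _root_.mul_inv_cancel, _root_.one_mul]
          · simp }
    -- the projection of `Y` to `Z` is open
    let pr : Y.left ⟶ Z.left := pullback.fst (Red.bc σ Z).hom T.hom ≫ pullback.fst Z.hom σ
    have hpb : IsPullback pr (pullback.snd (Red.bc σ Z).hom T.hom) Z.hom (T.hom ≫ σ) :=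
      (IsPullback.of_hasPullback (Red.bc σ Z).hom T.hom).paste_horiz (IsPullback.of_hasPullback Z.hom σ)
    haveI : UniversallyOpen (T.hom ≫ σ) := FDescent.universallyOpen_of_subsingleton _
    haveI : UniversallyOpen pr := MorphismProperty.of_isPullback hpb.flip inferInstance
    let HY : Set Y.left := (fst (Red.bc σ Z) T).left ⁻¹' Set.range π
    have hdY : Dense HY := Dense.mono (fun w hw => hsub hw) (hd.preimage pr.isOpenMap)
    have hoY : IsOpen HY := by
      have h := π.isLocallyClosed_range.preimage (fst (Red.bc σ Z) T).left.continuous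
      have e : coborder HY = HY := by
        simp only [coborder, hdY.closure_eq, ← Set.compl_eq_univ_diff, compl_compl]
      exact e ▸ isLocallyClosed_iff_isOpen_coborder.mp h
    haveI : Nonempty Y.left := ⟨(lift ζ (𝟙 T)).left (IsLocalRing.closedPoint K)⟩
    let τl : Y.left ≅ Y.left := (Over.forget S).mapIso τ
    haveI : IsOpenImmersion τl.hom := IsOpenImmersion.of_isIso _
    have hdτ : Dense (τ.hom.left ⁻¹' HY) := hdY.preimage τl.hom.isOpenEmbedding.isOpenMap
    obtain ⟨w, hw₁, hw₂⟩ := hdτ.inter_open_nonempty HY hoY hdY.nonempty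
    let T' : Over S := Over.mk (Y.left.fromSpecResidueField w ≫ Y.hom)
    let j : T' ⟶ Y := Over.homMk (Y.left.fromSpecResidueField w) rfl
    have hl : ∀ (y : T' ⟶ Red.bc σ Z), y.left (IsLocalRing.closedPoint (Y.left.residueField w)) ∈ Set.range π →
        Fac σ i' (y ≫ gS) := by
      intro y hy
      obtain ⟨p, hp⟩ := hy
      exact (hiff y).mp (MorLib.MonoSpec.exists_lift_residue π y.left p hp.symm)
    have hjw : j.left (IsLocalRing.closedPoint (Y.left.residueField w)) = w := Scheme.fromSpecResidueField_apply _ _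
    obtain ⟨la, hla⟩ := hl (j ≫ fst _ _) (by
      rw [GrpSchLib.left_comp_apply, hjw]; exact hw₁)
    obtain ⟨lb, hlb⟩ := hl (j ≫ ((snd _ _ ≫ ζ) * fst _ _)) (by
      rw [GrpSchLib.left_comp_apply, hjw]
      have e : τ.hom ≫ fst _ _ = (snd _ _ ≫ ζ) * fst _ _ := lift_fst _ _
      rw [← e, GrpSchLib.left_comp_apply]
      exact hw₂)
    have hfacζ : Fac σ i' ((j ≫ snd _ _ ≫ ζ) ≫ gS) := by
      refine ⟨lb * la⁻¹, ?_⟩
      rw [MonObj.mul_comp, GrpObj.inv_comp, hla, hlb]
      have : IsMonHom gS := inferInstanceAs (IsMonHom ((Over.pullback σ).map g))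
      rw [MonObj.comp_mul, MonObj.mul_comp, Category.assoc j (snd _ _ ≫ ζ), _root_.mul_inv_cancel_right]
    obtain ⟨l, hl'⟩ := (hiff _).mpr hfacζ
    refine ⟨l (IsLocalRing.closedPoint (Y.left.residueField w)), ?_⟩
    rw [← Scheme.Hom.comp_apply, hl', GrpSchLib.left_comp_apply, GrpSchLib.left_comp_apply]
    exact Scheme.fromSpecResidueField_apply _ _
  haveI : IsClosedImmersion π := IsClosedImmersion.of_isPreimmersion _ (by rw [hsurj.range_eq]; exact isClosed_univ)
  haveI : IsIso π := by
    refine isIso_of_family Z.hom σ (fun t => (a t).left) hd π fun t => ?_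
    obtain ⟨l, hl⟩ := hat t
    refine ⟨pullback.map _ _ _ _ (𝟙 _) (𝟙 _) (𝟙 _) (by simp [Over.w (a t)]) (by simp) ≫ l, ?_⟩
    rw [Category.assoc, hl]
    apply pullback.hom_ext
    · rw [Category.assoc, bcMap_left_fst, ← Category.assoc]
      erw [pullback.lift_fst, pullback.lift_fst, Category.comp_id]
    · rw [Category.assoc]
      erw [Over.w ((Over.pullback σ).map (a t))]
      erw [pullback.lift_snd, pullback.lift_snd]
  have := (hiff (𝟙 (Red.bc σ Z))).mp ⟨inv π, by rw [IsIso.inv_hom_id]; rfl⟩
  rwa [Category.id_comp] at this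

theorem exists_bc_minimal [GeometricallyReduced X.hom] {Γ : Over (Spec (CommRingCat.of k))} [GrpObj Γ] (i : Γ ⟶ G)
    [IsMonHom i] [IsClosedImmersion i.left] (hf : ∃ f' : X ⟶ Γ, f' ≫ i = f)
    (hmin : ∀ (Γ' : Over (Spec (CommRingCat.of k))) (_ : GrpObj Γ') (i' : Γ' ⟶ G), IsMonHom i' → IsClosedImmersion i'.left →
        (∃ f'' : X ⟶ Γ', f'' ≫ i' = f) → ∃ j : Γ ⟶ Γ', j ≫ i' = i)
    {Γ' : Over S} [GrpObj Γ'] (i' : Γ' ⟶ Red.bc σ G) [IsMonHom i'] [IsImmersion i'.left]
    (hf' : Fac σ i' ((Over.pullback σ).map f)) : Fac σ i' ((Over.pullback σ).map i) := by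
  obtain ⟨str, hm, h2, -, -⟩ := exists_generated f
  letI := str
  haveI := hm
  obtain ⟨j, hj⟩ := hmin (gen f) str (genι f) hm inferInstance h2
  choose a ha using exists_word_factor f
  have hd : Dense (⋃ t, Set.range (a t).left) := by
    rw [(genι f).left.isClosedEmbedding.isInducing.dense_iff]
    intro z
    rw [Set.image_iUnion]
    have : ∀ t, (genι f).left '' Set.range (a t).left = Set.range (word f t).left := fun t => by
      rw [← Set.range_comp, ← ha t]
      exact congrArg Set.range (funext fun _ => (GrpSchLib.left_comp_apply _ _ _).symm)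
    simp only [this]
    exact (range_genι f).subset ⟨z, rfl⟩
  obtain ⟨l, hl⟩ := fac_of_family σ (genι f) a hd i' fun t => by rw [ha t]; exact fac_word σ f i' hf' t
  exact ⟨(Over.pullback σ).map j ≫ l, by rw [Category.assoc, hl, ← Functor.map_comp, hj]⟩

end Groth.Agent.GenSub
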