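import Groth.Agent.FBaseLib.Product
import Mathlib.AlgebraicGeometry.Morphisms.Immersion
import Mathlib.LinearAlgebra.TensorProduct.Basis

/-! A reduced scheme over a field dominated by geometrically reduced schemes is geometrically reduced. -/

universe u

open CategoryTheory AlgebraicGeometry Limits TensorProduct

namespace Groth.Agent.GenSub

variable {k : Type u} [Field k]

theorem isReduced_tensor_of_family {K A : Type u} [CommRing K] [Algebra k K] [CommRing A] [Algebra k A]
    (h : ∀ a : A, a ≠ 0 → ∃ (B : CommRingCat.{u}) (_ : Algebra k B) (g : A →ₐ[k] B),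
      g a ≠ 0 ∧ _root_.IsReduced (K ⊗[k] B)) :
    _root_.IsReduced (K ⊗[k] A) := by
  refine ⟨fun z hz => ?_⟩
  let b := Module.Free.chooseBasis k K
  apply (TensorProduct.equivFinsuppOfBasisLeft (N := A) b).injective
  rw [map_zero]
  ext i
  rw [Finsupp.zero_apply]
  by_contra hne
  obtain ⟨B, _, g, hg, hB⟩ := h _ hne
  apply hg
  have key : ∀ y : K ⊗[k] A, TensorProduct.equivFinsuppOfBasisLeft (N := B) b
      (Algebra.TensorProduct.map (AlgHom.id k K) g y) i =
      g (TensorProduct.equivFinsuppOfBasisLeft (N := A) b y i) := by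
    intro y
    induction y using TensorProduct.induction_on with
    | zero => simp
    | tmul c a => simp
    | add y w hy hw => simp [hy, hw]
  rw [← key, (hz.map _).eq_zero]
  simp

theorem isReduced_field_tensor_of_geometricallyReduced {B : CommRingCat.{u}} [Algebra k B]
    (h : GeometricallyReduced (Spec.map (CommRingCat.ofHom (algebraMap k B)))) (K : Type u) [Field K] [Algebra k K] :
    _root_.IsReduced (K ⊗[k] B) := by
  haveI : AlgebraicGeometry.IsReduced
      (pullback (Spec.map (CommRingCat.ofHom (algebraMap k K))) (Spec.map (CommRingCat.ofHom (algebraMap k B)))) :=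
    pullback_of_geometrically' h.geometrically_isReduced _ _
  haveI : AlgebraicGeometry.IsReduced (Spec (CommRingCat.of (K ⊗[k] B))) :=
    isReduced_of_isOpenImmersion (pullbackSpecIso k K B).inv
  exact (affine_isReduced_iff (CommRingCat.of (K ⊗[k] B))).mp inferInstance

theorem isReduced_pullback_spec_of_dense {A B : CommRingCat.{u}} (a : Spec A ⟶ Spec (CommRingCat.of k))
    [AlgebraicGeometry.IsReduced (Spec A)] {ι : Type*} {Q : ι → Scheme.{u}} (g : ∀ t, Q t ⟶ Spec A)
    [∀ t, GeometricallyReduced (g t ≫ a)] (hd : Dense (⋃ t, Set.range (g t)))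
    (hB : IsField B) (b : Spec B ⟶ Spec (CommRingCat.of k)) : AlgebraicGeometry.IsReduced (pullback a b) := by
  obtain ⟨φ, rfl⟩ := Spec.map_surjective a
  obtain ⟨ψ, rfl⟩ := Spec.map_surjective b
  letI : Algebra k A := φ.hom.toAlgebra
  letI : Algebra k B := ψ.hom.toAlgebra
  letI := hB.toField
  haveI : _root_.IsReduced A := (affine_isReduced_iff A).mp inferInstance
  haveI : _root_.IsReduced (B ⊗[k] A) := by
    refine isReduced_tensor_of_family (k := k) fun c hc => ?_
    have hne : (PrimeSpectrum.basicOpen c : Set (PrimeSpectrum A)).Nonempty := by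
      by_contra hne
      apply hc
      refine IsNilpotent.eq_zero (PrimeSpectrum.basicOpen_eq_bot_iff c |>.mp ?_)
      exact TopologicalSpace.Opens.ext (Set.not_nonempty_iff_eq_empty.mp hne)
    obtain ⟨x, hx, hxT⟩ := Dense.exists_mem_open (X := PrimeSpectrum A) hd (PrimeSpectrum.basicOpen c).2 hne
    obtain ⟨t, p, hp⟩ := Set.mem_iUnion.mp hx
    obtain ⟨j, q, hq⟩ := (Q t).affineCover.exists_eq p
    obtain ⟨θ, hθ⟩ := Spec.map_surjective ((Q t).affineCover.f j ≫ g t)
    letI : Algebra k _ := (φ ≫ θ).hom.toAlgebra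
    refine ⟨_, inferInstance, ⟨θ.hom, fun r => rfl⟩, ?_, ?_⟩
    · intro h0
      have hm : Spec.map θ q = x := by
        rw [hθ, Scheme.Hom.comp_apply]
        exact (congrArg (g t) hq).trans hp
      have hm' : PrimeSpectrum.comap θ.hom q ∈ PrimeSpectrum.basicOpen c := (congrArg (fun z : PrimeSpectrum A => z ∈ PrimeSpectrum.basicOpen c) hm).mpr hxT
      exact hm' (show θ.hom c ∈ q.asIdeal from (show θ.hom c = 0 from h0) ▸ Ideal.zero_mem _)
    · haveI h1 : GeometricallyReduced (Spec.map θ ≫ Spec.map φ) := by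
        rw [hθ, Category.assoc]
        exact @FBaseLib.geometricallyReduced_comp_openImmersion k _ _ _ _ ((Q t).affineCover.map_prop j) _ inferInstance
      refine isReduced_field_tensor_of_geometricallyReduced ?_ B
      rw [← Spec.map_comp] at h1
      exact h1
  haveI : _root_.IsReduced (A ⊗[k] B) :=
    isReduced_of_injective (Algebra.TensorProduct.comm k A B) (Algebra.TensorProduct.comm k A B).injective
  exact isReduced_of_isOpenImmersion (pullbackSpecIso k A B).hom

theorem geometricallyReduced_of_dense {Z : Scheme.{u}} [AlgebraicGeometry.IsReduced Z]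
    (f : Z ⟶ Spec (CommRingCat.of k)) {ι : Type*} {P : ι → Scheme.{u}} (a : ∀ t, P t ⟶ Z)
    [∀ t, GeometricallyReduced (a t ≫ f)] (hd : Dense (⋃ t, Set.range (a t))) :
    GeometricallyReduced f := by
  refine ⟨geometrically_iff_of_isClosedUnderIsomorphisms.mpr fun K _ y => ?_⟩
  apply +allowSynthFailures @IsReduced.of_openCover
    (𝒰 := Scheme.Pullback.openCoverOfLeft Z.affineCover f y)
  intro i
  let e := Z.affineCover.f i
  haveI : IsOpenImmersion e := Z.affineCover.map_prop i
  haveI : AlgebraicGeometry.IsReduced (Z.affineCover.X i) := isReduced_of_isOpenImmersion e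
  haveI : ∀ t, GeometricallyReduced (pullback.fst e (a t) ≫ (e ≫ f)) := fun t => by
    rw [← Category.assoc, pullback.condition, Category.assoc]
    exact FBaseLib.geometricallyReduced_comp_openImmersion _ _
  refine @isReduced_pullback_spec_of_dense k _ _ _ (e ≫ f) ‹_› ι _ (fun t => pullback.fst e (a t)) ‹_› ?_
    (Field.toIsField K) y
  refine Dense.mono ?_ (hd.preimage e.isOpenEmbedding.isOpenMap)
  intro z hz
  obtain ⟨t, ht⟩ := Set.mem_iUnion.mp hz
  exact Set.mem_iUnion.mpr ⟨t, (Scheme.Pullback.range_fst e (a t)).symm.subset ht⟩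

end Groth.Agent.GenSub
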