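import Groth.Agent.GenSub.GeomRed
import Groth.Agent.FDescent.UnivOpen
import Groth.Agent.GrpFieldLib.SCCommutator
import Groth.Agent.H23.RedSub
import Groth.Agent.S5342

/-! The closed subgroup generated by a geometrically reduced scheme: closure of the images of words. -/

universe u

open CategoryTheory AlgebraicGeometry Limits MonoidalCategory CartesianMonoidalCategory MonObj GrpObj

noncomputable section

namespace Groth.Agent.GenSub

variable {k : Type u} [Field k]

theorem isReduced_of_gr {X : Over (Spec (CommRingCat.of k))} [GeometricallyReduced X.hom] :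
    AlgebraicGeometry.IsReduced X.left := by
  haveI : AlgebraicGeometry.IsReduced (pullback X.hom (𝟙 (Spec (CommRingCat.of k)))) :=
    pullback_of_geometrically (GeometricallyReduced.geometrically_isReduced (f := X.hom)) k _
  exact isReduced_of_isOpenImmersion (inv (pullback.fst X.hom (𝟙 _)))

theorem gr_tensor (X Y : Over (Spec (CommRingCat.of k))) [GeometricallyReduced X.hom] [GeometricallyReduced Y.hom] :
    GeometricallyReduced (X ⊗ Y).hom := by
  have h : GeometricallyReduced (pullback.snd X.hom Y.hom ≫ Y.hom) := by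
    refine ⟨geometrically_iff_of_isClosedUnderIsomorphisms.mpr fun K _ y => ?_⟩
    haveI : AlgebraicGeometry.IsReduced (pullback Y.hom y) :=
      pullback_of_geometrically (GeometricallyReduced.geometrically_isReduced (f := Y.hom)) K y
    haveI : AlgebraicGeometry.IsReduced (pullback X.hom (pullback.fst Y.hom y ≫ Y.hom)) :=
      FBaseLib.isReduced_pullback X.hom _
    exact isReduced_of_isOpenImmersion (pullbackAssoc X.hom Y.hom Y.hom y).hom
  rw [← pullback.condition] at h
  exact h

/-- Words in one letter and its inverse. -/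
inductive Word : Type u
  | one
  | gen
  | inv (t : Word)
  | mul (a b : Word)

variable {G X : Over (Spec (CommRingCat.of k))} [GrpObj G] (f : X ⟶ G)

def src (X : Over (Spec (CommRingCat.of k))) : Word.{u} → Over (Spec (CommRingCat.of k))
  | .one => 𝟙_ _
  | .gen => X
  | .inv t => src X t
  | .mul a b => src X a ⊗ src X b

def word : (t : Word.{u}) → (src X t ⟶ G)
  | .one => η[G]
  | .gen => f
  | .inv t => word t ≫ (GrpObj.inv : G ⟶ G)
  | .mul a b => (word a ⊗ₘ word b) ≫ μ[G]

theorem gr_src [GeometricallyReduced X.hom] : ∀ t, GeometricallyReduced (src X t).hom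
  | .one => ⟨geometrically_iff_of_isClosedUnderIsomorphisms.mpr fun K _ y => by
      show AlgebraicGeometry.IsReduced (pullback (𝟙 (Spec (CommRingCat.of k))) y)
      haveI : IsOpenImmersion (pullback.snd (𝟙 (Spec (CommRingCat.of k))) y) := IsOpenImmersion.of_isIso _
      exact isReduced_of_isOpenImmersion (pullback.snd (𝟙 (Spec (CommRingCat.of k))) y)⟩
  | .gen => ‹_›
  | .inv t => gr_src t
  | .mul a b => by
    haveI := gr_src a
    haveI := gr_src b
    exact gr_tensor _ _

def genSet : TopologicalSpace.Closeds G.left :=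
  ⟨closure (⋃ t, Set.range (word f t).left), isClosed_closure⟩

def gen : Over (Spec (CommRingCat.of k)) :=
  Over.mk ((Scheme.IdealSheafData.vanishingIdeal (genSet f)).subschemeι ≫ G.hom)

def genι : gen f ⟶ G := Over.homMk (Scheme.IdealSheafData.vanishingIdeal (genSet f)).subschemeι rfl

instance : IsClosedImmersion (genι f).left :=
  inferInstanceAs (IsClosedImmersion (Scheme.IdealSheafData.vanishingIdeal (genSet f)).subschemeι)

instance : AlgebraicGeometry.IsReduced (gen f).left :=
  inferInstanceAs (AlgebraicGeometry.IsReduced (Scheme.IdealSheafData.vanishingIdeal (genSet f)).subscheme)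

theorem range_genι : Set.range (genι f).left = closure (⋃ t, Set.range (word f t).left) :=
  H23.RedSub.range_vanishingIdeal (genSet f)

/-- A morphism from a reduced scheme factors through a closed immersion containing its image. -/
theorem exists_factor_closed {Z U Y : Scheme.{u}} (i : Z ⟶ U) [IsClosedImmersion i] (g : Y ⟶ U)
    [AlgebraicGeometry.IsReduced Y] (h : Set.range g ⊆ Set.range i) : ∃ l, l ≫ i = g := by
  have hg : g.ker = (⊥ : Y.IdealSheafData).map g := (Scheme.IdealSheafData.map_bot g).symm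
  have h2 : i.ker ≤ g.ker := by
    rw [hg, ← Y.nilradical_eq_bot, ← Scheme.IdealSheafData.vanishingIdeal_top,
      Scheme.IdealSheafData.map_vanishingIdeal, ← Scheme.IdealSheafData.le_support_iff_le_vanishingIdeal,
      TopologicalSpace.Closeds.closure_le]
    rintro _ ⟨y, -, rfl⟩
    exact Scheme.Hom.range_subset_ker_support i (h ⟨y, rfl⟩)
  exact ⟨IsClosedImmersion.lift i g h2, IsClosedImmersion.lift_fac i g h2⟩

theorem exists_factor_over {Z T U : Over (Spec (CommRingCat.of k))} (i : Z ⟶ U) [IsClosedImmersion i.left]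
    (g : T ⟶ U) [AlgebraicGeometry.IsReduced T.left] (h : Set.range g.left ⊆ Set.range i.left) :
    ∃ l, l ≫ i = g := by
  obtain ⟨l, hl⟩ := exists_factor_closed i.left g.left h
  exact ⟨Over.homMk l (by rw [← Over.w i, reassoc_of% hl, Over.w g]), Over.OverMorphism.ext hl⟩

theorem exists_word_factor [GeometricallyReduced X.hom] (t : Word.{u}) : ∃ l, l ≫ genι f = word f t := by
  haveI := gr_src (X := X) t
  haveI := isReduced_of_gr (X := src X t)
  refine exists_factor_over _ _ ?_
  rw [range_genι]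
  exact (Set.subset_iUnion (fun t => Set.range (word f t).left) t).trans subset_closure

theorem dense_tensor {Z : Over (Spec (CommRingCat.of k))} {T : Type*} {P : T → Over (Spec (CommRingCat.of k))}
    (a : ∀ t, P t ⟶ Z) (hd : Dense (⋃ t, Set.range (a t).left)) :
    Dense (⋃ t, ⋃ s, Set.range (a t ⊗ₘ a s).left) := by
  set E := ⋃ t, Set.range (a t).left
  haveI := FDescent.universallyOpen_of_subsingleton Z.hom
  have h1 : Dense ((fst Z Z).left ⁻¹' E) :=
    hd.preimage (pullback.fst Z.hom Z.hom).isOpenMap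
  refine dense_iff_closure_eq.mpr (Set.eq_univ_of_univ_subset ?_)
  rw [← h1.closure_eq]
  refine closure_minimal (fun q hq => ?_) isClosed_closure
  obtain ⟨t, ht⟩ := Set.mem_iUnion.mp hq
  haveI := FDescent.universallyOpen_of_subsingleton (P t).hom
  have h2 : Dense ((snd (P t) Z).left ⁻¹' E) :=
    hd.preimage (pullback.snd (P t).hom Z.hom).isOpenMap
  obtain ⟨p, hp⟩ : q ∈ Set.range (a t ▷ Z).left := by
    rw [Over.whiskerRight_left, Scheme.Pullback.range_map]
    exact ⟨ht, ⟨_, rfl⟩⟩
  rw [← hp]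
  refine map_mem_closure (a t ▷ Z).left.continuous (h2.closure_eq ▸ Set.mem_univ p) (fun r hr => ?_)
  obtain ⟨s, hs⟩ := Set.mem_iUnion.mp hr
  obtain ⟨w, hw⟩ : r ∈ Set.range (P t ◁ a s).left := by
    rw [Over.whiskerLeft_left, Scheme.Pullback.range_map]
    exact ⟨⟨_, rfl⟩, hs⟩
  refine Set.mem_iUnion.mpr ⟨t, Set.mem_iUnion.mpr ⟨s, w, ?_⟩⟩
  rw [← hw, ← GrpSchLib.left_comp_apply, MonoidalCategory.tensorHom_def']

theorem exists_generated [GeometricallyReduced X.hom] :
    ∃ (str : GrpObj (gen f)), letI := str; IsMonHom (genι f) ∧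
      (∃ f' : X ⟶ gen f, f' ≫ genι f = f) ∧ GeometricallyReduced (gen f).hom ∧
      ∀ (Γ' : Over (Spec (CommRingCat.of k))) (_ : GrpObj Γ') (i' : Γ' ⟶ G), IsMonHom i' → IsClosedImmersion i'.left →
        (∃ f'' : X ⟶ Γ', f'' ≫ i' = f) → ∃ j : gen f ⟶ Γ', j ≫ i' = genι f := by
  choose a ha using exists_word_factor f
  haveI : Mono (genι f) := (Over.forget _).mono_of_mono_map (inferInstanceAs (Mono (genι f).left))
  have hd : Dense (⋃ t, Set.range (a t).left) := by
    rw [(genι f).left.isClosedEmbedding.isInducing.dense_iff]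
    intro z
    rw [Set.image_iUnion]
    have : ∀ t, (genι f).left '' Set.range (a t).left = Set.range (word f t).left := fun t => by
      rw [← Set.range_comp, ← ha t]
      exact congrArg Set.range (funext fun _ => (GrpSchLib.left_comp_apply _ _ _).symm)
    simp only [this]
    exact (range_genι f).subset ⟨z, rfl⟩
  haveI hgr : GeometricallyReduced (gen f).hom := by
    haveI : ∀ t, GeometricallyReduced ((a t).left ≫ (gen f).hom) := fun t => by
      rw [Over.w]; exact gr_src t
    exact geometricallyReduced_of_dense _ (fun t => (a t).left) hd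
  haveI : AlgebraicGeometry.IsReduced (gen f ⊗ gen f).left := FBaseLib.isReduced_pullback _ _
  obtain ⟨η', hη'⟩ : ∃ l, l ≫ genι f = η[G] := ⟨a .one, ha .one⟩
  obtain ⟨ι', hι'⟩ : ∃ l, l ≫ genι f = (genι f)⁻¹ := by
    refine exists_factor_over _ _ ?_
    rintro _ ⟨z, rfl⟩
    rw [range_genι, show (genι f)⁻¹ = genι f ≫ (GrpObj.inv : G ⟶ G) by
      rw [GrpObj.inv_eq_inv, GrpObj.comp_inv, Category.comp_id], GrpSchLib.left_comp_apply]
    refine map_mem_closure (GrpObj.inv : G ⟶ G).left.continuous ((range_genι f).subset ⟨z, rfl⟩) ?_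
    intro y hy
    obtain ⟨t, p, rfl⟩ := Set.mem_iUnion.mp hy
    exact Set.mem_iUnion.mpr ⟨.inv t, p, GrpSchLib.left_comp_apply _ _ _⟩
  obtain ⟨μ', hμ'⟩ : ∃ l, l ≫ genι f = (fst _ _ ≫ genι f) * (snd _ _ ≫ genι f) := by
    refine exists_factor_over _ _ ?_
    rintro _ ⟨z, rfl⟩
    rw [range_genι]
    refine map_mem_closure ((fst _ _ ≫ genι f) * (snd _ _ ≫ genι f) : gen f ⊗ gen f ⟶ G).left.continuous
      ((dense_tensor a hd).closure_eq ▸ Set.mem_univ z) ?_
    intro y hy
    obtain ⟨t, hy⟩ := Set.mem_iUnion.mp hy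
    obtain ⟨s, p, rfl⟩ := Set.mem_iUnion.mp hy
    refine Set.mem_iUnion.mpr ⟨.mul t s, p, ?_⟩
    have e : word f (.mul t s) = (a t ⊗ₘ a s) ≫ ((fst _ _ ≫ genι f) * (snd _ _ ≫ genι f)) := by
      show (word f t ⊗ₘ word f s) ≫ μ[G] = _
      rw [MonObj.comp_mul, Hom.mul_def, ← ha t, ← ha s, ← Category.assoc, ← Category.assoc,
        tensorHom_fst, tensorHom_snd, Category.assoc, Category.assoc]
      congr 1
    rw [← GrpSchLib.left_comp_apply, ← e]
    rfl
  obtain ⟨str, hstr⟩ := GrpSchLib.exists_grpObj_of_mono (genι f) η' hη' μ' hμ' ι' hι'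
  refine ⟨str, hstr, ⟨a .gen, ha .gen⟩, hgr, fun Γ' _ i' _ hi' ⟨f'', hf''⟩ => ?_⟩
  have hw : ∀ t, ∃ l, l ≫ i' = word f t := by
    intro t
    induction t with
    | one => exact ⟨η[Γ'], IsMonHom.one_hom i'⟩
    | gen => exact ⟨f'', hf''⟩
    | inv t ih =>
      obtain ⟨l, hl⟩ := ih
      refine ⟨l ≫ (GrpObj.inv : Γ' ⟶ Γ'), ?_⟩
      show _ = word f t ≫ _
      rw [Category.assoc, GrpObj.inv_hom, ← Category.assoc]
      exact congrArg (fun q => q ≫ (GrpObj.inv : G ⟶ G)) hl
    | mul t s iht ihs =>
      obtain ⟨l, hl⟩ := iht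
      obtain ⟨m, hm⟩ := ihs
      refine ⟨(l ⊗ₘ m) ≫ μ[Γ'], ?_⟩
      show _ = (word f t ⊗ₘ word f s) ≫ _
      rw [Category.assoc, IsMonHom.mul_hom]
      refine (Category.assoc _ _ _).symm.trans (congrArg (fun q => q ≫ μ[G]) ?_)
      exact (MonoidalCategory.tensorHom_comp_tensorHom _ _ _ _).trans (by rw [hl, hm])
  refine exists_factor_over i' (genι f) ?_
  rw [range_genι]
  refine closure_minimal (Set.iUnion_subset fun t => ?_) i'.left.isClosedEmbedding.isClosed_range
  obtain ⟨l, hl⟩ := hw t
  rintro _ ⟨z, rfl⟩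
  exact ⟨l.left z, by rw [← GrpSchLib.left_comp_apply, hl]⟩

theorem connected_gen [GeometricallyReduced X.hom] [ConnectedSpace X.left]
    (x : 𝟙_ (Over (Spec (CommRingCat.of k))) ⟶ X) (hx : x ≫ f = η[G]) : ConnectedSpace (gen f).left := by
  have key : ∀ t : Word.{u}, ConnectedSpace (src X t).left ∧ ∃ y, y ≫ word f t = η[G] := by
    intro t
    induction t with
    | one =>
      refine ⟨?_, 𝟙 _, Category.id_comp _⟩
      show ConnectedSpace (Spec (CommRingCat.of k))
      infer_instance
    | gen => exact ⟨‹_›, x, hx⟩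
    | inv t ih =>
      obtain ⟨hc, y, hy⟩ := ih
      refine ⟨hc, y, ?_⟩
      show y ≫ word f t ≫ _ = _
      rw [← Category.assoc, hy]
      exact GrpObj.one_inv
    | mul t s iht ihs =>
      obtain ⟨hc, y, hy⟩ := iht
      obtain ⟨hc', y', hy'⟩ := ihs
      refine ⟨S5342.result k _ _ (src X t).hom (src X s).hom y.left (Over.w y), lift y y', ?_⟩
      show lift y y' ≫ (word f t ⊗ₘ word f s) ≫ _ = _
      rw [← Category.assoc, lift_map, hy, hy', ← Hom.mul_def, MonObj.one_eq_one, _root_.one_mul]
  let e : G.left := η[G].left (IsLocalRing.closedPoint k)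
  have hconn : _root_.IsConnected (Set.range (genι f).left) := by
    rw [range_genι]
    refine IsConnected.closure ⟨⟨e, Set.mem_iUnion.mpr ⟨.one, _, rfl⟩⟩, ?_⟩
    refine isPreconnected_iUnion ⟨e, Set.mem_iInter.mpr fun t => ?_⟩ fun t => ?_
    · obtain ⟨_, y, hy⟩ := key t
      exact ⟨_, (GrpSchLib.left_comp_apply _ _ _).symm.trans
        (congrArg (fun m => m.left (IsLocalRing.closedPoint k)) hy)⟩
    · haveI := (key t).1
      exact isPreconnected_range (word f t).left.continuous
  rw [connectedSpace_iff_univ]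
  exact ⟨(Set.range_nonempty_iff_nonempty.mp hconn.1).elim fun z => ⟨z, trivial⟩,
    (genι f).left.isClosedEmbedding.isInducing.isPreconnected_image.mp (Set.image_univ ▸ hconn.2)⟩

end Groth.Agent.GenSub
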