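import Groth.Agent.GenSub.Main
import Groth.Agent.GrpSchLib.HomClosedRange

/-! The product of two subgroup schemes, one normalizing the other. -/

universe u

open CategoryTheory AlgebraicGeometry MonoidalCategory CartesianMonoidalCategory MonObj GrpObj

noncomputable section

namespace Groth.Agent.GenSub

variable {k : Type u} [Field k] {G A B : Over (Spec (CommRingCat.of k))} [GrpObj G] [GrpObj A] [GrpObj B]
  (a : A ⟶ G) [IsMonHom a] (b : B ⟶ G) [IsMonHom b]

/-- `(x, y) ↦ a x * (b y)⁻¹`. -/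
def prodMap : A ⊗ B ⟶ G := (fst A B ≫ a) * (snd A B ≫ b)⁻¹

/-- The action of `A × B` on `G` by left and right translations. -/
def lrAction : AlgGrp.Action (A ⊗ B) G where
  act := ((fst _ G ≫ fst A B ≫ a) * snd _ G) * (fst _ G ≫ snd A B ≫ b)⁻¹
  one_act := by
    simp only [MonObj.comp_mul, GrpObj.comp_inv, whiskerRight_fst_assoc, whiskerRight_snd,
      IsMonHom.one_hom_assoc, IsMonHom.one_hom, MonObj.one_eq_one, MonObj.comp_one, MonObj.one_comp,
      inv_one, _root_.one_mul, _root_.mul_one, CartesianMonoidalCategory.leftUnitor_hom]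
  mul_act := by
    simp only [MonObj.comp_mul, GrpObj.comp_inv, whiskerRight_fst_assoc, whiskerRight_snd, MonObj.mul_eq_mul,
      MonObj.mul_comp, whiskerLeft_fst_assoc, whiskerLeft_snd, whiskerLeft_snd_assoc, Category.assoc,
      associator_hom_fst, associator_hom_fst_assoc, associator_hom_snd_fst_assoc, associator_hom_snd_snd,
      _root_.mul_inv_rev, _root_.mul_assoc]

theorem lrAction_orbitMap : (lrAction a b).orbitMap η[G] = prodMap a b := by
  show lift (𝟙 _) (toUnit _ ≫ η[G]) ≫ (((fst _ G ≫ fst A B ≫ a) * snd _ G) * (fst _ G ≫ snd A B ≫ b)⁻¹) = _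
  simp only [MonObj.comp_mul, GrpObj.comp_inv, lift_fst_assoc, lift_snd, MonObj.one_eq_one, MonObj.comp_one,
    Category.id_comp, _root_.mul_one]
  rfl

theorem lift_prodMap {T : Over (Spec (CommRingCat.of k))} (x : T ⟶ A) (y : T ⟶ B) :
    lift x y ≫ prodMap a b = (x ≫ a) * (y ≫ b)⁻¹ := by
  simp [prodMap, MonObj.comp_mul, GrpObj.comp_inv]

theorem range_tensor_mul : Set.range ((a ⊗ₘ b) ≫ μ[G]).left = Set.range (prodMap a b).left := by
  have e1 : lift (fst A B) (snd A B)⁻¹ ≫ prodMap a b = (a ⊗ₘ b) ≫ μ[G] := by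
    rw [lift_prodMap, GrpObj.inv_comp, _root_.inv_inv, Hom.mul_def]
    congr 1
  have e2 : lift (fst A B) (snd A B)⁻¹ ≫ (a ⊗ₘ b) ≫ μ[G] = prodMap a b := by
    rw [← Category.assoc, lift_map, ← Hom.mul_def, GrpObj.inv_comp]
    rfl
  refine Set.Subset.antisymm ?_ ?_
  · rintro _ ⟨z, rfl⟩
    exact ⟨(lift (fst A B) (snd A B)⁻¹).left z, by rw [← GrpSchLib.left_comp_apply, e1]⟩
  · rintro _ ⟨z, rfl⟩
    exact ⟨(lift (fst A B) (snd A B)⁻¹).left z, by rw [← GrpSchLib.left_comp_apply, e2]⟩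

/-- Given two points of `G` in the range of `m`, they lift simultaneously. -/
theorem exists_common_lift {X T : Over (Spec (CommRingCat.of k))} (m : X ⟶ G) (g : T ⟶ G) (p : T.left) (x : X.left)
    (h : m.left x = g.left p) : ∃ (T' : Over (Spec (CommRingCat.of k))) (q : T' ⟶ T) (y : T' ⟶ X) (p' : T'.left),
      q.left p' = p ∧ y ≫ m = q ≫ g := by
  obtain ⟨z, hz, -⟩ := Scheme.Pullback.exists_preimage_pullback (f := g.left) (g := m.left) p x h.symm
  refine ⟨Over.mk (Limits.pullback.fst g.left m.left ≫ T.hom),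
    Over.homMk (Limits.pullback.fst g.left m.left) rfl, Over.homMk (Limits.pullback.snd g.left m.left) ?_, z, hz,
    Over.OverMorphism.ext Limits.pullback.condition.symm⟩
  show _ = Limits.pullback.fst g.left m.left ≫ T.hom
  rw [← Over.w g, ← Over.w m, ← Category.assoc, ← Category.assoc, Limits.pullback.condition]

variable (hN : ∀ (T : Over (Spec (CommRingCat.of k))) (y : T ⟶ B) (x : T ⟶ A),
  ∃ x' : T ⟶ A, (y ≫ b) * (x ≫ a) * (y ≫ b)⁻¹ = x' ≫ a)

include hN in
theorem mem_range_mul {T : Over (Spec (CommRingCat.of k))} (g g' : T ⟶ G) (p : T.left)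
    (h : g.left p ∈ Set.range (prodMap a b).left) (h' : g'.left p ∈ Set.range (prodMap a b).left) :
    (g * g').left p ∈ Set.range (prodMap a b).left := by
  obtain ⟨x, hx⟩ := h
  obtain ⟨T₁, q₁, z₁, p₁, hp₁, hz₁⟩ := exists_common_lift (prodMap a b) g p x hx
  obtain ⟨x', hx'⟩ := h'
  obtain ⟨T₂, q₂, z₂, p₂, hp₂, hz₂⟩ := exists_common_lift (prodMap a b) (q₁ ≫ g') p₁ x'
    (by rw [GrpSchLib.left_comp_apply, hp₁]; exact hx')
  let x1 := q₂ ≫ z₁ ≫ fst A B
  let y1 := q₂ ≫ z₁ ≫ snd A B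
  let x2 := z₂ ≫ fst A B
  let y2 := z₂ ≫ snd A B
  obtain ⟨x2', hx2'⟩ := hN T₂ (y1⁻¹) x2
  refine ⟨(lift (x1 * x2') (y2 * y1)).left p₂, ?_⟩
  rw [← GrpSchLib.left_comp_apply, lift_prodMap]
  have e1 : q₂ ≫ q₁ ≫ g = (x1 ≫ a) * (y1 ≫ b)⁻¹ := by
    rw [← hz₁, ← Category.assoc]
    simp [prodMap, MonObj.comp_mul, GrpObj.comp_inv, x1, y1]
  have e2 : q₂ ≫ q₁ ≫ g' = (x2 ≫ a) * (y2 ≫ b)⁻¹ := by
    rw [← hz₂]
    simp [prodMap, MonObj.comp_mul, GrpObj.comp_inv, x2, y2]
  have e3 : ((x1 * x2') ≫ a) * ((y2 * y1) ≫ b)⁻¹ = q₂ ≫ q₁ ≫ (g * g') := by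
    rw [MonObj.comp_mul, MonObj.comp_mul, e1, e2, MonObj.mul_comp, MonObj.mul_comp, ← hx2', GrpObj.inv_comp]
    group
  rw [e3, GrpSchLib.left_comp_apply, GrpSchLib.left_comp_apply, hp₂, hp₁]

include hN in
theorem mem_range_inv {T : Over (Spec (CommRingCat.of k))} (g : T ⟶ G) (p : T.left)
    (h : g.left p ∈ Set.range (prodMap a b).left) : (g⁻¹).left p ∈ Set.range (prodMap a b).left := by
  obtain ⟨x, hx⟩ := h
  obtain ⟨T₁, q₁, z₁, p₁, hp₁, hz₁⟩ := exists_common_lift (prodMap a b) g p x hx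
  obtain ⟨x', hx'⟩ := hN T₁ (z₁ ≫ snd A B) (z₁ ≫ fst A B)⁻¹
  refine ⟨(lift x' (z₁ ≫ snd A B)⁻¹).left p₁, ?_⟩
  rw [← GrpSchLib.left_comp_apply, lift_prodMap]
  have e3 : (x' ≫ a) * (((z₁ ≫ snd A B)⁻¹) ≫ b)⁻¹ = q₁ ≫ g⁻¹ := by
    rw [GrpObj.comp_inv, ← hz₁, ← hx']
    simp only [prodMap, MonObj.comp_mul, GrpObj.comp_inv, GrpObj.inv_comp, Category.assoc]
    group
  rw [e3, GrpSchLib.left_comp_apply, hp₁]

include hN in
theorem range_gen_eq [LocallyOfFiniteType G.hom] [LocallyOfFiniteType A.hom] [QuasiCompact A.hom]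
    [LocallyOfFiniteType B.hom] [QuasiCompact B.hom] [GeometricallyReduced A.hom] [GeometricallyReduced B.hom] :
    Set.range (genι (prodMap a b)).left = Set.range (prodMap a b).left := by
  haveI := gr_tensor A B
  obtain ⟨str, hm, ⟨f', hf'⟩, -, -⟩ := exists_generated (prodMap a b)
  letI := str
  haveI := hm
  haveI : Nonempty (A ⊗ B).left := ⟨(η[A ⊗ B] : 𝟙_ _ ⟶ A ⊗ B).left (IsLocalRing.closedPoint k)⟩
  haveI : LocallyOfFiniteType (A ⊗ B).hom :=
    inferInstanceAs (LocallyOfFiniteType (Limits.pullback.fst A.hom B.hom ≫ A.hom))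
  haveI : QuasiCompact (A ⊗ B).hom :=
    inferInstanceAs (QuasiCompact (Limits.pullback.fst A.hom B.hom ≫ A.hom))
  haveI : IsLocallyNoetherian G.left := LocallyOfFiniteType.isLocallyNoetherian G.hom
  haveI : QuasiCompact (prodMap a b).left := by
    haveI : CompactSpace (A ⊗ B).left := QuasiCompact.compactSpace_of_compactSpace (A ⊗ B).hom
    infer_instance
  set R := Set.range (prodMap a b).left
  -- words stay in `R`
  have hone : η[G].left (IsLocalRing.closedPoint k) ∈ R := by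
    refine ⟨(lift η[A] η[B]).left (IsLocalRing.closedPoint k), ?_⟩
    rw [← GrpSchLib.left_comp_apply, lift_prodMap, IsMonHom.one_hom, IsMonHom.one_hom]
    congr 3
    rw [MonObj.one_eq_one, inv_one, _root_.one_mul]
  have hwords : ∀ t, Set.range (word (prodMap a b) t).left ⊆ R := by
    intro t
    induction t with
    | one =>
      rintro _ ⟨z, rfl⟩
      have : z = IsLocalRing.closedPoint k := @Subsingleton.elim (Spec (CommRingCat.of k)) inferInstance _ _
      rw [this]
      exact hone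
    | gen => exact subset_rfl
    | inv t ih =>
      rintro _ ⟨z, rfl⟩
      show (word (prodMap a b) t ≫ (GrpObj.inv : G ⟶ G)).left z ∈ R
      rw [GrpObj.inv_eq_inv, GrpObj.comp_inv, Category.comp_id]
      exact mem_range_inv a b hN _ z (ih ⟨z, rfl⟩)
    | mul t s iht ihs =>
      rintro _ ⟨z, rfl⟩
      let z' : (src (A ⊗ B) t ⊗ src (A ⊗ B) s).left := z
      have e : (word (prodMap a b) t ⊗ₘ word (prodMap a b) s) ≫ μ[G] =
          (fst (src (A ⊗ B) t) (src (A ⊗ B) s) ≫ word (prodMap a b) t) * (snd _ _ ≫ word (prodMap a b) s) := by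
        rw [Hom.mul_def]
        congr 1
      show ((word (prodMap a b) t ⊗ₘ word (prodMap a b) s) ≫ μ[G]).left z' ∈ R
      rw [e]
      refine mem_range_mul a b hN _ _ z' ?_ ?_ <;> rw [GrpSchLib.left_comp_apply]
      · exact iht ⟨_, rfl⟩
      · exact ihs ⟨_, rfl⟩
  have hC : Set.range (genι (prodMap a b)).left = closure R := by
    rw [range_genι]
    refine Set.Subset.antisymm (closure_mono (Set.iUnion_subset hwords)) (closure_mono ?_)
    exact Set.subset_iUnion_of_subset .gen subset_rfl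
  have hlc : IsLocallyClosed R := by
    refine GrpSchLib.isLocallyClosed_range_of_homogeneous (k := k) (K := AlgebraicClosure k) (prodMap a b)
      fun w w' => ?_
    obtain ⟨S, T, h1, -, h3⟩ := GrpSchLib.orbitMap_homogeneous (lrAction a b) η[G] w w'
    rw [lrAction_orbitMap] at h1
    exact ⟨S, T, h1, h3⟩
  -- the open subgroup of `gen` on `R`
  let W : (gen (prodMap a b)).left.Opens := ⟨(genι (prodMap a b)).left ⁻¹' R, by
    have h1 := (genι (prodMap a b)).left.continuous.isOpen_preimage _ hlc.isOpen_coborder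
    rwa [show (genι (prodMap a b)).left ⁻¹' R = (genι (prodMap a b)).left ⁻¹' coborder R from by
      ext z
      refine ⟨fun h => subset_coborder h, fun h => ?_⟩
      have := closure_inter_coborder (s := R)
      exact this.subset ⟨hC.subset ⟨z, rfl⟩, h⟩]⟩
  let P : Over (Spec (CommRingCat.of k)) := Over.mk (W.ι ≫ (gen (prodMap a b)).hom)
  let e : P ⟶ gen (prodMap a b) := Over.homMk W.ι rfl
  haveI : IsOpenImmersion e.left := inferInstanceAs (IsOpenImmersion W.ι)
  haveI : Mono e := (Over.forget _).mono_of_mono_map (inferInstanceAs (Mono W.ι))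
  have hfac : ∀ {T : Over (Spec (CommRingCat.of k))} (g : T ⟶ gen (prodMap a b)),
      (∀ t, (g ≫ genι (prodMap a b)).left t ∈ R) → ∃ l : T ⟶ P, l ≫ e = g := by
    intro T g hg
    have hle : Set.range g.left ⊆ Set.range e.left := by
      rintro _ ⟨z, rfl⟩
      refine (Scheme.Opens.range_ι W).symm.subset ?_
      show (genι (prodMap a b)).left (g.left z) ∈ R
      rw [← GrpSchLib.left_comp_apply]; exact hg z
    refine ⟨Over.homMk (IsOpenImmersion.lift e.left g.left hle) ?_, ?_⟩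
    · show _ ≫ e.left ≫ (gen (prodMap a b)).hom = T.hom
      rw [← Category.assoc, IsOpenImmersion.lift_fac, Over.w]
    · exact Over.OverMorphism.ext (IsOpenImmersion.lift_fac _ _ _)
  have heR : ∀ {T : Over (Spec (CommRingCat.of k))} (g : T ⟶ P) (t : T.left),
      ((g ≫ e) ≫ genι (prodMap a b)).left t ∈ R := fun g t => by
    rw [GrpSchLib.left_comp_apply, GrpSchLib.left_comp_apply]
    exact (Scheme.Opens.range_ι W).subset ⟨g.left t, rfl⟩
  obtain ⟨η', hη'⟩ := hfac η[gen (prodMap a b)] fun t => by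
    rw [IsMonHom.one_hom, show t = IsLocalRing.closedPoint k from
      @Subsingleton.elim (Spec (CommRingCat.of k)) inferInstance _ _]
    exact hone
  obtain ⟨μ', hμ'⟩ := hfac ((fst P P ≫ e) * (snd P P ≫ e)) fun t => by
    rw [MonObj.mul_comp]
    exact mem_range_mul a b hN _ _ t (heR (fst P P) t) (heR (snd P P) t)
  obtain ⟨ι', hι'⟩ := hfac e⁻¹ fun t => by
    rw [GrpObj.inv_comp]
    have := heR (𝟙 P) t
    rw [Category.id_comp] at this
    exact mem_range_inv a b hN _ t this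
  obtain ⟨strP, hstrP⟩ := GrpSchLib.exists_grpObj_of_mono e η' hη' μ' hμ' ι' hι'
  letI := strP
  haveI := hstrP
  have hcl : IsClosed (W : Set (gen (prodMap a b)).left) := by
    have h := GrpSchLib.isClosed_range_of_isLocallyClosed e
      (by rw [show Set.range e.left = (W : Set _) from Scheme.Opens.range_ι W]; exact W.2.isLocallyClosed)
    rwa [show Set.range e.left = (W : Set _) from Scheme.Opens.range_ι W] at h
  refine Set.Subset.antisymm ?_ (subset_closure.trans hC.symm.subset)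
  have himg := (genι (prodMap a b)).left.isClosedEmbedding.isClosedMap _ hcl
  rw [hC]
  refine (closure_minimal ?_ himg).trans ?_
  · intro r hr
    obtain ⟨z, hz⟩ := hC.symm.subset (subset_closure hr)
    exact ⟨z, show (genι (prodMap a b)).left z ∈ R from hz ▸ hr, hz⟩
  · rintro _ ⟨z, hz, rfl⟩
    exact hz

end Groth.Agent.GenSub
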